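import Cfsg.Agent.H361.Tits.T2.Dvd

/-!
# The socle of a 2-transitive group of degree `p ^ k + 1` with a normal `p`-subgroup of the point stabilizer (helper361)
-/

set_option autoImplicit false
open Cfsg

namespace Cfsg.Agent.H361.Tits

open Subgroup MulAction Cfsg.Agent.H384.TwoTrans Cfsg.Agent.H384 Cfsg.Agent.H499.TT

universe u v w

variable {G : Type u} {Ω : Type v} [Group G] [MulAction G Ω] {T : Subgroup G} {a : Ω} {p : ℕ} {Z : Subgroup G}

/-- `A_n`, `n ≥ 7`, has no such subgroup -/
theorem SR.alt_no (A : AS G Ω T) (h : SR a p Z) (hT : 2 * Nat.card T = (Nat.card Ω).factorial)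
    (h7 : 7 ≤ Nat.card Ω) : False := by
  classical
  have := A.finG
  have := A.finΩ
  have := A.faithful
  have := Fintype.ofFinite Ω
  have halt := alt_le_range A hT
  obtain ⟨z, hz, hz1⟩ := h.exists_ne
  have hza : z • a = a := h.fix z hz
  have havoid : ∀ s : Finset Ω, s.card ≤ 6 → ∃ w, w ∉ s := by
    intro s hs
    by_contra hcon
    push Not at hcon
    have h1 : s = Finset.univ := Finset.eq_univ_iff_forall.2 hcon
    rw [h1, Finset.card_univ, ← Nat.card_eq_fintype_card] at hs
    omega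
  obtain ⟨x, hx⟩ := havoid {a} (by simp)
  have hxa : x ≠ a := by simpa using hx
  have hzx : z • x ≠ x := fun hc => hxa (h.free z hz hz1 x hc)
  have hzxa : z • x ≠ a := by
    intro hc
    apply hxa
    have h1 : z • x = z • a := by rw [hc, hza]
    exact smul_left_cancel z h1
  obtain ⟨w, hw⟩ := havoid {a, x, z • x, z • z • x} (Finset.card_le_four.trans (by norm_num))
  simp only [Finset.mem_insert, Finset.mem_singleton, not_or] at hw
  obtain ⟨hwa, hwx, hwy, hwz⟩ := hw
  -- the 3-cycle `x ↦ z x ↦ w ↦ x`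
  let t : Equiv.Perm Ω := Equiv.swap x (z • x) * Equiv.swap (z • x) w
  have htalt : t ∈ alternatingGroup Ω := by
    rw [Equiv.Perm.mem_alternatingGroup, Equiv.Perm.sign_mul, Equiv.Perm.sign_swap (Ne.symm hzx),
      Equiv.Perm.sign_swap (Ne.symm hwy)]
    norm_num
  obtain ⟨g, hg⟩ := halt htalt
  have hgs : ∀ u, g • u = t u := fun u => DFunLike.congr_fun hg u
  have htx : g • x = z • x := by
    rw [hgs]
    change Equiv.swap x (z • x) (Equiv.swap (z • x) w x) = _
    rw [Equiv.swap_apply_of_ne_of_ne (Ne.symm hzx) (Ne.symm hwx), Equiv.swap_apply_left]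
  have htzx : g • z • x = w := by
    rw [hgs]
    change Equiv.swap x (z • x) (Equiv.swap (z • x) w (z • x)) = _
    rw [Equiv.swap_apply_left, Equiv.swap_apply_of_ne_of_ne hwx hwy]
  have htu : ∀ u, u ≠ x → u ≠ z • x → u ≠ w → g • u = u := by
    intro u h1 h2 h3
    rw [hgs]
    change Equiv.swap x (z • x) (Equiv.swap (z • x) w u) = _
    rw [Equiv.swap_apply_of_ne_of_ne h2 h3, Equiv.swap_apply_of_ne_of_ne h1 h2]
  have hga : g • a = a := htu a (Ne.symm hxa) (Ne.symm hzxa) (Ne.symm hwa)
  have hmem : z * (g * z⁻¹ * g⁻¹) ∈ Z := mul_mem hz (h.norm g hga _ (inv_mem hz))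
  obtain ⟨b, hb⟩ := havoid {a, x, z • x, w, z • z • x, z • w} (Finset.card_le_six)
  simp only [Finset.mem_insert, Finset.mem_singleton, not_or] at hb
  obtain ⟨hba, hbx, hby, hbw, hb1, hb2⟩ := hb
  have hgb : g • b = b := htu b hbx hby hbw
  have hzb : g • z⁻¹ • b = z⁻¹ • b := by
    apply htu
    · intro hc
      rw [inv_smul_eq_iff] at hc
      exact hby hc
    · intro hc
      rw [inv_smul_eq_iff] at hc
      exact hb1 hc
    · intro hc
      rw [inv_smul_eq_iff] at hc
      exact hb2 hc
  have hone : z * (g * z⁻¹ * g⁻¹) = 1 := by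
    by_contra hne
    apply hba
    apply h.free _ hmem hne
    have h1 : g⁻¹ • b = b := by rw [inv_smul_eq_iff, hgb]
    rw [mul_smul, mul_smul, mul_smul, h1, hzb, smul_inv_smul]
  have hcomm : z * g = g * z := by
    have h1 : z * g = z * (g * z⁻¹ * g⁻¹) * (g * z) := by group
    rw [h1, hone, one_mul]
  apply hwz
  have h1 : z • g • x = g • z • x := by rw [← mul_smul, ← mul_smul, hcomm]
  rw [htx, htzx] at h1
  exact h1.symm

theorem no_sq {N k : ℕ} (hN : N.Prime) (h : N = p ^ k) (hk : 2 ≤ k) (hp : p.Prime) : False := by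
  rw [h] at hN
  exact Nat.Prime.not_prime_pow hk hN

/-- **the types**, `k ≥ 2`, degree not 5 -/
theorem SR.types (A : AS G Ω T) (h : SR a p Z) (hK : Known2 ↥T (Nat.card Ω)) {k : ℕ} (hc : Nat.card Ω = p ^ k + 1)
    (hk : 2 ≤ k) (hn5 : Nat.card Ω ≠ 5) :
    R1 p k ↥T ∨ (p = 3 ∧ k = 3 ∧ Nat.card ↥T = 504 ∧ Nat.card Ω = 28) := by
  have hfin := A.finG
  have hfinΩ := A.finΩ
  have hff := A.faithful
  have hp := h.prime
  have hN : Nat.card Ω - 1 = p ^ k := by omega
  have h4 : 4 ≤ p ^ k := by
    calc 4 = 2 ^ 2 := by norm_num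
      _ ≤ p ^ 2 := Nat.pow_le_pow_left hp.two_le 2
      _ ≤ p ^ k := Nat.pow_le_pow_right hp.pos hk
  have h7 : 7 ≤ Nat.card Ω := by
    by_contra hcon
    have h6 : Nat.card Ω = 6 := by omega
    exact no_sq (N := 5) (by norm_num) (by omega : 5 = p ^ k) hk hp
  generalize hn : Nat.card Ω = n at hK
  rw [hn] at hN h7 hc
  rw [← hn]
  cases hK with
  | alt n h5 e =>
    obtain ⟨e⟩ := e
    exact (h.alt_no A (by rw [hn, Nat.card_congr e.toEquiv, card_alt h5]) (by omega)).elim
  | psl F d n hd hd2 e hn' =>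
    obtain ⟨r, hchar⟩ := CharP.exists F
    obtain ⟨⟨f, hf0⟩, hr, hF⟩ := FiniteField.card F r
    simp only [PNat.mk_coe] at hF
    rcases Nat.lt_or_ge 2 d with h3 | h3
    · exact (psl_no hp hr hf0 h3 (by rw [← hF]; exact hn') hc).elim
    · left
      obtain rfl : d = 2 := by omega
      have h4' := hd2 rfl
      have hnq : n = Fintype.card F + 1 := by
        have h5 : Fintype.card F ^ 2 - 1 = (Fintype.card F + 1) * (Fintype.card F - 1) := by
          have := Nat.sq_sub_sq (Fintype.card F) 1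
          rwa [one_pow] at this
        rw [h5] at hn'
        exact Nat.eq_of_mul_eq_mul_right (by omega) hn'
      exact R1.psl F h4' (by omega) e
  | sp F m n hF hm e hn' =>
    obtain ⟨e⟩ := e
    exact (h.sp_row A hF hm e (by rw [hn]; exact hn')).elim
  | psu F q n hq hF e hn' => exact Or.inl (R1.psu F q hq hF (by omega) e)
  | sz F m n hm hF e hn' =>
    left
    have h5 : p = 2 := by
      have h6 : p ∣ (2 ^ (2 * m + 1)) ^ 2 := by
        rw [← hF]
        have : Fintype.card F ^ 2 = p ^ k := by omega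
        rw [this]
        exact dvd_pow_self p (by omega)
      exact (Nat.prime_dvd_prime_iff_eq hp Nat.prime_two).1 (hp.dvd_of_dvd_pow (hp.dvd_of_dvd_pow h6))
    subst h5
    exact R1.sz F m rfl hm hF (by rw [← hF]; omega) e
  | ree K m n hm hK e hn' =>
    left
    have h5 : p = 3 := by
      have h6 : p ∣ (3 ^ (2 * m + 1)) ^ 3 := by
        rw [← hK]
        have : Fintype.card K ^ 3 = p ^ k := by omega
        rw [this]
        exact dvd_pow_self p (by omega)
      exact (Nat.prime_dvd_prime_iff_eq hp Nat.prime_three).1 (hp.dvd_of_dvd_pow (hp.dvd_of_dvd_pow h6))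
    subst h5
    exact R1.ree K m rfl hm hK (by rw [← hK]; omega) e
  | psl2_8 F hF e =>
    obtain ⟨e⟩ := e
    right
    have h5 : p ^ k = 3 ^ 3 := by omega
    have h6 : p = 3 := by
      have h7 : p ∣ 3 ^ 3 := by rw [← h5]; exact dvd_pow_self p (by omega)
      exact (Nat.prime_dvd_prime_iff_eq hp Nat.prime_three).1 (hp.dvd_of_dvd_pow h7)
    subst h6
    refine ⟨rfl, Nat.pow_right_injective (le_refl 2 |>.trans (by norm_num)) h5, ?_, hn⟩
    rw [Nat.card_congr e.toEquiv, card_psl2 hF]
    norm_num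
  | psl2_9 F hF e => exact (no_sq (N := 5) (by norm_num) hN hk hp).elim
  | psl2_11 F hF e =>
    exact (no_pp hp (r := 2) (s := 5) (by norm_num) (by norm_num) (by norm_num) hN (by norm_num) (by norm_num)).elim
  | psl4_2 F hF e => exact (no_sq (N := 7) (by norm_num) hN hk hp).elim
  | a7 e =>
    exact (no_pp hp (r := 2) (s := 7) (by norm_num) (by norm_num) (by norm_num) hN (by norm_num) (by norm_num)).elim
  | m11 h' =>
    exact (no_pp hp (r := 2) (s := 5) (by norm_num) (by norm_num) (by norm_num) hN (by norm_num) (by norm_num)).elim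
  | m11' h' => exact (no_sq (N := 11) (by norm_num) hN hk hp).elim
  | m12 h' => exact (no_sq (N := 11) (by norm_num) hN hk hp).elim
  | m22 h' =>
    exact (no_pp hp (r := 3) (s := 7) (by norm_num) (by norm_num) (by norm_num) hN (by norm_num) (by norm_num)).elim
  | m23 h' =>
    exact (no_pp hp (r := 2) (s := 11) (by norm_num) (by norm_num) (by norm_num) hN (by norm_num) (by norm_num)).elim
  | m24 h' => exact (no_sq (N := 23) (by norm_num) hN hk hp).elim
  | hs h' =>
    exact (no_pp hp (r := 5) (s := 7) (by norm_num) (by norm_num) (by norm_num) hN (by norm_num) (by norm_num)).elim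
  | co3 h' =>
    exact (no_pp hp (r := 5) (s := 11) (by norm_num) (by norm_num) (by norm_num) hN (by norm_num) (by norm_num)).elim

end Cfsg.Agent.H361.Tits
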