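import Cfsg.Agent.H361.Tits.T2.Small

/-!
# 2-transitive subgroups of rank one groups contain the socle (helper361)
-/

set_option autoImplicit false
open Cfsg

namespace Cfsg.Agent.H361.Tits

open Subgroup MulAction Cfsg.Agent.H384.TwoTrans Cfsg.Agent.H384 Cfsg.Agent.H499.TT

universe u v w

variable {G : Type u} {Ω : Type v} [Group G] [MulAction G Ω] {T : Subgroup G} {a : Ω} {p : ℕ}

/-- a simple nonabelian subgroup of index prime to `p` of a group with the dichotomy is the whole group -/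
theorem eq_of_dich [Finite G] [hp : Fact p.Prime] {T S : Subgroup G} (hD : H248.Ovg.Dich p T) (hST : S ≤ T)
    (hs : IsSimpleGroup ↥S) (hna : ¬ IsMulCommutative ↥S) (hi : ¬ p ∣ S.relIndex T) : T ≤ S := by
  have e : S.subgroupOf T ≃* S := Subgroup.subgroupOfEquivOfLe hST
  have h1 : Cfsg.pCore p ↥(S.subgroupOf T) = ⊥ := by
    have hnt : Nontrivial ↥(S.subgroupOf T) := e.toEquiv.nontrivial
    have hs' : IsSimpleGroup ↥(S.subgroupOf T) := IsSimpleGroup.isSimpleGroup_of_surjective e.symm.toMonoidHom e.symm.surjective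
    rcases Subgroup.Normal.eq_bot_or_eq_top (Lib.Cores.pCore_normal (G := ↥(S.subgroupOf T)) p) with h | h
    · exact h
    · exfalso
      have h2 : IsPGroup p (⊤ : Subgroup ↥(S.subgroupOf T)) := by
        rw [← h]; exact Lib.Cores.pCore_isPGroup p
      have h3 : IsPGroup p ↥(S.subgroupOf T) := h2.of_equiv Subgroup.topEquiv
      have h4 : IsPGroup p ↥S := h3.of_equiv e
      have := h4.isNilpotent
      exact hna ⟨⟨IsSimpleGroup.comm_iff_isSolvable.2 inferInstance⟩⟩
  have h2 := hD.eq_top (S.subgroupOf T) h1 hi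
  rwa [subgroupOf_eq_top] at h2

/-- a regular normal subgroup -/
theorem card_of_regular [Finite G] [Finite Ω] {N : Subgroup G} (htr : ∀ x y : Ω, ∃ n ∈ N, n • x = y)
    (hreg : ∀ x : Ω, ∀ n ∈ N, n • x = x → n = 1) (a : Ω) : Nat.card N = Nat.card Ω := by
  apply Nat.card_congr
  refine Equiv.ofBijective (fun n : N => (n : G) • a) ⟨fun m n hmn => ?_, fun x => ?_⟩
  · have h1 : (m : G) • a = (n : G) • a := hmn
    have h2 : ((n : G)⁻¹ * m) • a = a := by rw [mul_smul, inv_smul_eq_iff, h1]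
    have h3 := hreg a _ (mul_mem (inv_mem n.2) m.2) h2
    exact Subtype.ext (inv_mul_eq_one.1 h3).symm
  · obtain ⟨n, hn, h⟩ := htr a x
    exact ⟨⟨n, hn⟩, h⟩

/-- **`PSL₂(2^k)`, `2^k + 1` prime**: no affine 2-transitive subgroup for `k ≥ 3` -/
theorem no_fermat (A : AS G Ω T) {F : Type} [Field F] [Fintype F] {k : ℕ} (hk : 3 ≤ k) (hF : Fintype.card F = 2 ^ k)
    (e : ↥T ≃* Matrix.ProjectiveSpecialLinearGroup (Fin 2) F) (hc : Nat.card Ω = 2 ^ k + 1)
    (hprime : (Nat.card Ω).Prime) {H : Subgroup G} (hd : 2 ^ k ∣ Nat.card H) {N : Subgroup H} (hN : N.Normal)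
    (hNc : IsMulCommutative ↥N) (htr : ∀ x y : Ω, ∃ n ∈ N, n • x = y)
    (hreg : ∀ x : Ω, ∀ n ∈ N, n • x = x → n = 1) : False := by
  have := A.finG
  have := A.finΩ
  have := A.faithful
  have := A.nontrivialΩ
  obtain ⟨a⟩ : Nonempty Ω := inferInstance
  have hNcard := card_of_regular htr hreg a
  have : Fact (Nat.card N).Prime := ⟨hNcard ▸ hprime⟩
  have hcyc : IsCyclic N := isCyclic_of_prime_card rfl
  have := Fact.mk Nat.prime_two
  -- the action on `N`
  have hker : (MulAut.conjNormal : H →* MulAut N).ker ≤ N := by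
    intro c hc'
    rw [MonoidHom.mem_ker] at hc'
    obtain ⟨n, hn, hna⟩ := htr a (c • a)
    have h1 : ∀ m ∈ N, c * m = m * c := by
      intro m hm
      have h2 := congrArg Subtype.val (DFunLike.congr_fun hc' (⟨m, hm⟩ : N))
      rw [MulAut.conjNormal_apply] at h2
      have h3 : c * m * c⁻¹ = m := h2
      exact mul_inv_eq_iff_eq_mul.1 h3
    have h2 : n⁻¹ * c = 1 := by
      have h3 : ∀ x : Ω, (n⁻¹ * c) • x = x := by
        intro x
        obtain ⟨m, hm, hmx⟩ := htr a x
        have h4 : n⁻¹ * c * m = m * (n⁻¹ * c) := by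
          have h5 : n⁻¹ * m = m * n⁻¹ := by
            have h6 := hNc.is_comm.comm (⟨n⁻¹, inv_mem hn⟩ : N) ⟨m, hm⟩
            exact congrArg Subtype.val h6
          rw [mul_assoc, h1 m hm, ← mul_assoc, h5, mul_assoc]
        rw [← hmx, ← mul_smul, h4, mul_smul, mul_smul n⁻¹ c a, ← hna, inv_smul_smul]
      have hfH : FaithfulSMul H Ω := ⟨fun h => Subtype.ext (FaithfulSMul.eq_of_smul_eq_smul (α := Ω) h)⟩
      exact FaithfulSMul.eq_of_smul_eq_smul (α := Ω) fun x => by rw [h3, one_smul]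
    rw [inv_mul_eq_one] at h2
    rw [← h2]
    exact hn
  obtain ⟨P⟩ : Nonempty (Sylow 2 H) := inferInstance
  have hPN : ∀ x ∈ (P : Subgroup H), x ∈ N → x = 1 := by
    intro x hx hxN
    obtain ⟨j, hj⟩ := (IsPGroup.iff_orderOf.1 P.isPGroup') ⟨x, hx⟩
    rw [Subgroup.orderOf_mk] at hj
    have h1 : orderOf x ∣ Nat.card N := by
      have := orderOf_dvd_natCard (⟨x, hxN⟩ : N)
      rwa [Subgroup.orderOf_mk] at this
    rw [hNcard] at h1
    rcases (Nat.dvd_prime hprime).1 h1 with h2 | h2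
    · exact orderOf_eq_one_iff.1 h2
    · exfalso
      rw [hj, hc] at h2
      have h3 : 1 ≤ j := by
        by_contra h0
        have : j = 0 := by omega
        rw [this, pow_zero] at h2
        have := Nat.two_pow_pos k
        omega
      have h4 : 2 ∣ 2 ^ j := dvd_pow_self 2 (by omega)
      have h5 : 2 ∣ 2 ^ k := dvd_pow_self 2 (by omega)
      omega
  have hPcyc : IsCyclic P := by
    have h1 : IsCyclic (MulAut N) := by
      have e1 := IsCyclic.mulAutMulEquiv N
      have : IsCyclic (ZMod (Nat.card N))ˣ := inferInstance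
      exact isCyclic_of_surjective e1.symm.toMonoidHom e1.symm.surjective
    let f : P →* MulAut N := (MulAut.conjNormal : H →* MulAut N).comp (P : Subgroup H).subtype
    have hf : Function.Injective f := by
      rw [← MonoidHom.ker_eq_bot_iff, eq_bot_iff]
      intro x hx
      rw [Subgroup.mem_bot]
      apply Subtype.ext
      exact hPN x x.2 (hker hx)
    exact isCyclic_of_injective f hf
  obtain ⟨y, hy⟩ := hPcyc.exists_generator
  have hyo := orderOf_eq_card_of_forall_mem_zpowers hy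
  have hPd : 2 ^ k ∣ Nat.card P := P.pow_dvd_card_of_pow_dvd_card hd
  obtain ⟨j, hj⟩ := (IsPGroup.iff_card.1 P.isPGroup')
  -- the index
  have hCh : CharP F 2 := charP_of_card_eq_prime_pow hF
  have h8 : 8 ≤ 2 ^ k := by
    calc 8 = 2 ^ 3 := by norm_num
      _ ≤ 2 ^ k := Nat.pow_le_pow_right (by norm_num) hk
  have hi : T.index ∣ k := by
    have h1 := A.index_dvd_out e
    rw [card_out_psl2 Nat.prime_two (by omega) hF (by omega)] at h1
    have h2 : Nat.gcd 2 (2 ^ k - 1) = 1 := by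
      rw [← Nat.coprime_iff_gcd_eq_one, Nat.prime_two.coprime_iff_not_dvd]
      have : 2 ∣ 2 ^ k := dvd_pow_self 2 (by omega)
      omega
    rwa [h2, one_mul] at h1
  obtain ⟨g, hg⟩ : ∃ g : G, g = ((y : H) : G) := ⟨_, rfl⟩
  have hgo : orderOf g = 2 ^ j := by
    rw [hg, Subgroup.orderOf_coe, Subgroup.orderOf_coe, hyo, hj]
  have hT := A.pow_index_mem g
  have h1 : (e ⟨g ^ T.index, hT⟩) ^ 2 ^ j = 1 := by
    rw [← map_pow, MulEquivClass.map_eq_one_iff]
    apply Subtype.ext
    change (g ^ T.index) ^ 2 ^ j = 1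
    rw [← pow_mul, mul_comm, pow_mul, ← hgo, pow_orderOf_eq_one, one_pow]
  have h2 := pslTwo_pow j h1
  rw [← map_pow, MulEquivClass.map_eq_one_iff] at h2
  have h3 : (g ^ T.index) ^ 2 = 1 := congrArg Subtype.val h2
  rw [← pow_mul] at h3
  have h4 := orderOf_dvd_of_pow_eq_one h3
  rw [hgo, ← hj] at h4
  have h5 := hPd.trans h4
  have hi0 : 0 < T.index := Nat.pos_of_ne_zero T.index_ne_zero_of_finite
  have h6 := Nat.le_of_dvd (by omega) h5
  have h7 := Nat.le_of_dvd (by omega) hi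
  -- `2 ^ k > 2 k`
  have h9 : ∀ n : ℕ, 2 * (n + 3) < 2 ^ (n + 3) := by
    intro n
    induction n with
    | zero => norm_num
    | succ n ih =>
      have : 2 ^ (n + 1 + 3) = 2 * 2 ^ (n + 3) := by ring
      omega
  obtain ⟨n, rfl⟩ : ∃ n, k = n + 3 := ⟨k - 3, by omega⟩
  have := h9 n
  omega

end Cfsg.Agent.H361.Tits
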