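import Cfsg.Agent.H361.Tits.T2.Types
import Cfsg.Agent.S0245
import Cfsg.Agent.S0246
import Cfsg.Agent.S0364
import Cfsg.Agent.H807.El.Mathieu
import Cfsg.Agent.H361.Tits.Rows

/-!
# The degree minus one divides the order of the socle (helper361)
-/

set_option autoImplicit false
open Cfsg

namespace Cfsg.Agent.H361.Tits

open Subgroup Cfsg.Agent.H384.TwoTrans Cfsg.Agent.H499.TT

universe u v

/-- a power of a prime is not divisible by two primes -/
theorem no_pp {p k r s : ℕ} (hp : p.Prime) (hr : r.Prime) (hs : s.Prime) (hrs : r ≠ s) {N : ℕ} (hN : N = p ^ k)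
    (h1 : r ∣ N) (h2 : s ∣ N) : False := by
  rw [hN] at h1 h2
  have e1 := (Nat.prime_dvd_prime_iff_eq hr hp).1 (hr.dvd_of_dvd_pow h1)
  have e2 := (Nat.prime_dvd_prime_iff_eq hs hp).1 (hs.dvd_of_dvd_pow h2)
  exact hrs (e1.trans e2.symm)

/-- `n - 1` is not a prime power for `n = (q ^ d - 1) / (q - 1)`, `d ≥ 3` -/
theorem psl_no {p k r f d n : ℕ} (hp : p.Prime) (hr : r.Prime) (hf : 1 ≤ f) (hd : 3 ≤ d)
    (hn : n * (r ^ f - 1) = (r ^ f) ^ d - 1) (hk : n = p ^ k + 1) : False := by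
  have hq2 : 2 ≤ r ^ f := le_trans hr.two_le (Nat.le_self_pow (by omega) r)
  obtain ⟨q, hq⟩ : ∃ q, q = r ^ f := ⟨_, rfl⟩
  rw [← hq] at hn hq2
  obtain ⟨e, rfl⟩ : ∃ e, d = e + 1 := ⟨d - 1, by omega⟩
  have h1 : 1 ≤ q ^ e := Nat.one_le_pow _ _ (by omega)
  have h2 : p ^ k * (q - 1) = q * (q ^ e - 1) := by
    rw [hk, add_mul, one_mul, pow_succ] at hn
    obtain ⟨a, ha⟩ : ∃ a, q = a + 1 := ⟨q - 1, by omega⟩
    obtain ⟨b, hb⟩ : ∃ b, q ^ e = b + 1 := ⟨q ^ e - 1, by omega⟩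
    rw [hb, ha] at hn ⊢
    rw [Nat.add_sub_cancel] at hn ⊢
    have e1 : (b + 1) * (a + 1) - 1 = (a + 1) * b + a := by
      have : (b + 1) * (a + 1) = (a + 1) * b + a + 1 := by ring
      omega
    rw [e1] at hn
    rw [Nat.add_sub_cancel]
    omega
  -- `r = p`
  have hrq : r ∣ q := by rw [hq]; exact dvd_pow_self r (by omega)
  have hrp : r = p := by
    have h3 : r ∣ p ^ k * (q - 1) := by rw [h2]; exact hrq.mul_right _
    rcases hr.dvd_mul.1 h3 with h | h
    · exact (Nat.prime_dvd_prime_iff_eq hr hp).1 (hr.dvd_of_dvd_pow h)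
    · exfalso
      have h4 := (Nat.dvd_sub_iff_right (by omega : 1 ≤ q) hrq).1 h
      exact hr.one_lt.ne' (Nat.dvd_one.1 h4)
  subst hrp
  have h3 : Nat.Coprime (q ^ e - 1) (r ^ k) := by
    apply Nat.Coprime.pow_right
    rw [Nat.coprime_comm, hr.coprime_iff_not_dvd]
    exact not_dvd_pow_sub_one hr hrq (by omega) (by omega)
  have h4 : q ^ e - 1 ∣ q - 1 := by
    apply h3.dvd_of_dvd_mul_left
    rw [h2]
    exact dvd_mul_left _ _
  have h5 := Nat.le_of_dvd (by omega) h4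
  have h6 : q ^ 2 ≤ q ^ e := Nat.pow_le_pow_right (by omega) (by omega)
  have h7 : 2 * q ≤ q ^ 2 := by nlinarith
  omega

theorem psl2_dvd {F : Type*} [Field F] [Fintype F] :
    Fintype.card F ∣ Nat.card (Matrix.ProjectiveSpecialLinearGroup (Fin 2) F) := by
  have h := Cfsg.Agent.ClassicalGeometry.PSL2Basic.card_PSL2_gcd (F := F)
  have h1 : Nat.Coprime (Fintype.card F) (Nat.gcd 2 (Fintype.card F - 1)) := by
    have h2 : Nat.Coprime (Fintype.card F) (Fintype.card F - 1) := by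
      have h3 : 0 < Fintype.card F := Fintype.card_pos
      obtain ⟨a, ha⟩ : ∃ a, Fintype.card F = a + 1 := ⟨Fintype.card F - 1, by omega⟩
      rw [ha, Nat.add_sub_cancel]
      simp
    exact h2.coprime_dvd_right (Nat.gcd_dvd_right _ _)
  apply h1.dvd_of_dvd_mul_right
  rw [h]
  exact dvd_mul_right _ _

theorem psu3_dvd {F : Type*} [Field F] [Fintype F] {q : ℕ} (hF : Fintype.card F = q ^ 2) (hq : 1 ≤ q) :
    q ^ 3 ∣ Nat.card (Cfsg.PSU 3 F q) := by
  have h := card_psu3 hF hq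
  have h1 : Nat.Coprime (q ^ 3) (Nat.gcd 3 (q + 1)) := by
    apply Nat.Coprime.pow_left
    have h2 : Nat.Coprime q (q + 1) := by simp
    exact h2.coprime_dvd_right (Nat.gcd_dvd_right _ _)
  apply h1.dvd_of_dvd_mul_left
  rw [h, mul_assoc]
  exact dvd_mul_right _ _

theorem psp_dvd {F : Type*} [Field F] [Fintype F] {m n : ℕ} (hF : Fintype.card F = 2) (hm : 3 ≤ m)
    (hn : n = 2 ^ (m - 1) * (2 ^ m + 1) ∨ n = 2 ^ (m - 1) * (2 ^ m - 1)) : n - 1 ∣ Nat.card (Cfsg.PSp m F) := by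
  have h1 := S0245.result (F := F) hF m
  have h2 := S0246.result (F := F) hF m (by omega)
  have h3 := Subgroup.card_eq_card_quotient_mul_card_subgroup
    (Subgroup.center (Matrix.symplecticGroup (Fin m) F))
  rw [h1, h2] at h3
  norm_num at h3
  have h4 : Nat.card (Cfsg.PSp m F) = 2 ^ (m ^ 2) * ∏ i ∈ Finset.range m, (2 ^ (2 * (i + 1)) - 1) := h3.symm
  rw [h4]
  apply Dvd.dvd.mul_left
  obtain ⟨e, rfl⟩ : ∃ e, m = e + 2 := ⟨m - 2, by omega⟩
  rw [Finset.prod_range_succ, Finset.prod_range_succ, mul_assoc]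
  apply Dvd.dvd.mul_left
  obtain ⟨a, ha⟩ : ∃ a, 2 ^ (e + 1) = a + 1 := ⟨2 ^ (e + 1) - 1, by
    have : 1 ≤ 2 ^ (e + 1) := Nat.one_le_two_pow
    omega⟩
  have hb : 2 ^ (e + 2) = 2 * a + 2 := by rw [pow_succ, ha]; ring
  have e1 : 2 ^ (2 * (e + 1)) - 1 = a * (a + 2) := by
    have h5 : 2 ^ (2 * (e + 1)) = (a + 1) ^ 2 := by rw [mul_comm, pow_mul, ha]
    have h6 : (a + 1) ^ 2 = a * (a + 2) + 1 := by ring
    omega
  have e2 : 2 ^ (2 * (e + 1 + 1)) - 1 = (2 * a + 1) * (2 * a + 3) := by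
    have h5 : 2 ^ (2 * (e + 1 + 1)) = (2 * a + 2) ^ 2 := by rw [mul_comm, pow_mul, hb]
    have h6 : (2 * a + 2) ^ 2 = (2 * a + 1) * (2 * a + 3) + 1 := by ring
    omega
  rw [e1, e2]
  have e3 : e + 2 - 1 = e + 1 := rfl
  rw [e3, ha, hb] at hn
  rcases hn with hn | hn
  · have h5 : n - 1 = (2 * a + 1) * (a + 2) := by
      have : (a + 1) * (2 * a + 2 + 1) = (2 * a + 1) * (a + 2) + 1 := by ring
      omega
    rw [h5]
    exact ⟨a * (2 * a + 3), by ring⟩
  · have h5 : n - 1 = (2 * a + 3) * a := by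
      have h6 : 2 * a + 2 - 1 = 2 * a + 1 := by omega
      have : (a + 1) * (2 * a + 1) = (2 * a + 3) * a + 1 := by ring
      rw [h6] at hn
      omega
    rw [h5]
    exact ⟨(a + 2) * (2 * a + 1), by ring⟩

/-- `n - 1` divides the order of the socle, if it is a prime power, except for `PSL₂(8)` on 28 points -/
theorem dvd_or {T : Type u} [Group T] {n p k : ℕ} (h : Known2 T n) (hp : p.Prime) (hn : n = p ^ k + 1) :
    p ^ k ∣ Nat.card T ∨ (n = 28 ∧ Nat.card T = 504) := by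
  have hN : n - 1 = p ^ k := by omega
  rw [← hN]
  cases h with
  | alt n h5 e =>
    obtain ⟨e⟩ := e
    left
    rw [Nat.card_congr e.toEquiv]
    have h1 := card_alt h5
    obtain ⟨c, rfl⟩ : ∃ c, n = c + 2 := ⟨n - 2, by omega⟩
    have h2 : 2 ∣ c.factorial := Nat.dvd_factorial (by norm_num) (by omega)
    obtain ⟨b, hb⟩ := h2
    rw [Nat.factorial_succ, Nat.factorial_succ, hb] at h1
    refine ⟨(c + 2) * b, ?_⟩
    have e1 : c + 2 - 1 = c + 1 := rfl
    rw [e1]
    have h3 : 2 * Nat.card ↥(alternatingGroup (Fin (c + 2))) = 2 * ((c + 1) * ((c + 2) * b)) := by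
      rw [h1]; ring
    omega
  | psl F d n hd hd2 e hn' =>
    obtain ⟨e⟩ := e
    left
    obtain ⟨r, hchar⟩ := CharP.exists F
    obtain ⟨⟨f, hf0⟩, hr, hF⟩ := FiniteField.card F r
    simp only [PNat.mk_coe] at hF
    rcases Nat.lt_or_ge 2 d with h3 | h3
    · exact (psl_no hp hr hf0 h3 (by rw [← hF]; exact hn') hn).elim
    · obtain rfl : d = 2 := by omega
      have h4 := hd2 rfl
      have hnq : n = Fintype.card F + 1 := by
        have h5 : Fintype.card F ^ 2 - 1 = (Fintype.card F + 1) * (Fintype.card F - 1) := by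
          have := Nat.sq_sub_sq (Fintype.card F) 1
          rwa [one_pow] at this
        rw [h5] at hn'
        exact Nat.eq_of_mul_eq_mul_right (by omega) hn'
      rw [Nat.card_congr e.toEquiv, hnq, Nat.add_sub_cancel]
      exact psl2_dvd
  | sp F m n hF hm e hn' =>
    obtain ⟨e⟩ := e
    left
    rw [Nat.card_congr e.toEquiv]
    exact psp_dvd hF hm hn'
  | psu F q n hq hF e hn' =>
    obtain ⟨e⟩ := e
    left
    rw [Nat.card_congr e.toEquiv, hn', Nat.add_sub_cancel]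
    exact psu3_dvd hF (by omega)
  | sz F m n hm hF e hn' =>
    obtain ⟨e⟩ := e
    left
    rw [Nat.card_congr e.toEquiv, hn', Nat.add_sub_cancel, (Cfsg.Agent.S1163.result hm hF).1, hF, mul_assoc]
    exact dvd_mul_right _ _
  | ree K m n hm hK e hn' =>
    obtain ⟨e⟩ := e
    left
    rw [Nat.card_congr e.toEquiv, hn', Nat.add_sub_cancel, Cfsg.Agent.LieRecognition.ReeFinal.card hK, hK, mul_assoc]
    exact dvd_mul_right _ _
  | psl2_8 F hF e =>
    obtain ⟨e⟩ := e
    right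
    refine ⟨rfl, ?_⟩
    rw [Nat.card_congr e.toEquiv, card_psl2 hF]
    norm_num
  | psl2_9 F hF e =>
    obtain ⟨e⟩ := e
    left
    rw [Nat.card_congr e.toEquiv, card_psl2 hF]
    norm_num
  | psl2_11 F hF e =>
    exact (no_pp hp (r := 2) (s := 5) (by norm_num) (by norm_num) (by norm_num) hN (by norm_num) (by norm_num)).elim
  | psl4_2 F hF e =>
    obtain ⟨e⟩ := e
    left
    rw [Nat.card_congr e.toEquiv, card_psl4_2 hF]
    norm_num
  | a7 e =>
    exact (no_pp hp (r := 2) (s := 7) (by norm_num) (by norm_num) (by norm_num) hN (by norm_num) (by norm_num)).elim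
  | m11 h' =>
    exact (no_pp hp (r := 2) (s := 5) (by norm_num) (by norm_num) (by norm_num) hN (by norm_num) (by norm_num)).elim
  | m11' h' =>
    obtain ⟨e⟩ := h'
    left
    rw [Nat.card_congr e.toEquiv, Cfsg.Agent.H994.TwoGen.M11.card_M11]
    norm_num
  | m12 h' =>
    obtain ⟨e⟩ := h'
    left
    rw [Nat.card_congr e.toEquiv]
    have h1 : Nat.card Spor.M12 = 95040 := Cfsg.Agent.MTwelveType.SylowModel.card_M12
    rw [h1]
    norm_num
  | m22 h' =>
    exact (no_pp hp (r := 3) (s := 7) (by norm_num) (by norm_num) (by norm_num) hN (by norm_num) (by norm_num)).elim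
  | m23 h' =>
    exact (no_pp hp (r := 2) (s := 11) (by norm_num) (by norm_num) (by norm_num) hN (by norm_num) (by norm_num)).elim
  | m24 h' =>
    obtain ⟨e⟩ := h'
    left
    rw [Nat.card_congr e.toEquiv]
    have h1 : Nat.card M24 = 244823040 := Cfsg.Agent.S0364.result
    rw [h1]
    norm_num
  | hs h' =>
    exact (no_pp hp (r := 5) (s := 7) (by norm_num) (by norm_num) (by norm_num) hN (by norm_num) (by norm_num)).elim
  | co3 h' =>
    exact (no_pp hp (r := 5) (s := 11) (by norm_num) (by norm_num) (by norm_num) hN (by norm_num) (by norm_num)).elim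

end Cfsg.Agent.H361.Tits
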