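import Cfsg.Agent.H384.AsOut
import Cfsg.Agent.H361.Tits.SemiReg

/-!
# Subgroups of index prime to `p` contain the normal `p`-subgroups of the point stabilizers (helper361)
-/

set_option autoImplicit false

namespace Cfsg.Agent.H361.Tits

open Subgroup MulAction Cfsg.Agent.H384.TwoTrans

universe u v

variable {G : Type u} {Ω : Type v} [Group G] [MulAction G Ω]

/-- `Q ≠ 1` is a `p`-group, normal in the stabilizer of `a` -/
structure PQ (a : Ω) (p : ℕ) (Q : Subgroup G) : Prop where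
  prime : p.Prime
  ne_bot : Q ≠ ⊥
  isP : IsPGroup p ↥Q
  fix : ∀ x ∈ Q, x • a = a
  norm : ∀ g : G, g • a = a → ∀ x ∈ Q, g * x * g⁻¹ ∈ Q

namespace PQ

variable {a : Ω} {p : ℕ} {Q : Subgroup G}

theorem le [Finite G] (h : PQ a p Q) {H : Subgroup G} (hH : ∀ x y : Ω, ∃ g ∈ H, g • x = y) (hi : ¬ p ∣ H.index) :
    Q ≤ H := by
  have := Fact.mk h.prime
  obtain ⟨c, hc⟩ := h.isP.nonempty_fixed_point_of_prime_not_dvd_card (G ⧸ H) hi
  obtain ⟨g, rfl⟩ := QuotientGroup.mk_surjective c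
  obtain ⟨k, hk, hka⟩ := hH a (g⁻¹ • a)
  have h1 : (g * k) • a = a := by rw [mul_smul, hka, smul_inv_smul]
  intro x hx
  have h2 : (g * k) * ((g * k)⁻¹ * x * (g * k)) * (g * k)⁻¹ = x := by group
  have h3 : (g * k)⁻¹ * x * (g * k) ∈ Q := by
    have h4 : (g * k)⁻¹ • a = a := by rw [inv_smul_eq_iff, h1]
    have h5 := h.norm _ h4 x hx
    rwa [inv_inv] at h5
  -- every element of `Q` is conjugate under `g k` into `H`
  have key : ∀ y ∈ Q, (g * k)⁻¹ * y * (g * k) ∈ H := by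
    intro y hy
    have h4 : ((y * g : G) : G ⧸ H) = (g : G ⧸ H) := hc ⟨y, hy⟩
    have h5 := QuotientGroup.eq.1 h4.symm
    have h6 : (g * k)⁻¹ * y * (g * k) = k⁻¹ * (g⁻¹ * (y * g)) * k := by group
    rw [h6]
    exact mul_mem (mul_mem (inv_mem hk) h5) hk
  have h4 : (g * k) * x * (g * k)⁻¹ ∈ Q := h.norm _ h1 x hx
  have h5 := key _ h4
  have h6 : (g * k)⁻¹ * ((g * k) * x * (g * k)⁻¹) * (g * k) = x := by group
  rwa [h6] at h5

theorem conj (h : PQ a p Q) (g : G) : PQ (g • a) p (Q.map (MulAut.conj g).toMonoidHom) where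
  prime := h.prime
  ne_bot := by
    intro hc
    exact h.ne_bot ((Subgroup.map_eq_bot_iff_of_injective _ (MulAut.conj g).injective).1 hc)
  isP := h.isP.map _
  fix := by
    rintro _ ⟨x, hx, rfl⟩
    change (g * x * g⁻¹) • g • a = g • a
    rw [mul_smul, mul_smul, inv_smul_smul, h.fix x hx]
  norm := by
    rintro k hk _ ⟨x, hx, rfl⟩
    refine ⟨(g⁻¹ * k * g) * x * (g⁻¹ * k * g)⁻¹, h.norm _ ?_ x hx, ?_⟩
    · rw [mul_smul, mul_smul, hk, inv_smul_smul]
    · change g * (g⁻¹ * k * g * x * (g⁻¹ * k * g)⁻¹) * g⁻¹ = k * (g * x * g⁻¹) * k⁻¹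
      group

/-- **the general principle** -/
theorem socle_le (h : PQ a p Q) {T : Subgroup G} (A : AS G Ω T) {H : Subgroup G}
    (hH : ∀ x y : Ω, ∃ g ∈ H, g • x = y) (hi : ¬ p ∣ H.index) : T ≤ H := by
  have := A.finG
  refine (A.le_of_normal (normalClosure (Q : Set G)) inferInstance ?_).trans ?_
  · intro hc
    apply h.ne_bot
    rw [eq_bot_iff, ← hc]
    exact subset_normalClosure
  · rw [normalClosure, closure_le]
    intro x hx
    rw [Group.mem_conjugatesOfSet_iff] at hx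
    obtain ⟨y, hy, hyx⟩ := hx
    obtain ⟨g, rfl⟩ := isConj_iff.1 hyx
    exact (h.conj g).le hH hi ⟨y, hy, rfl⟩

end PQ

/-- `(n - 1) ∣ |H|`, hence a power of `p` -/
theorem dvd_card_of_two [Finite G] [Finite Ω] {H : Subgroup G} (h2 : IsMultiplyPretransitive H Ω 2)
    (hc : 2 ≤ Nat.card Ω) : Nat.card Ω * (Nat.card Ω - 1) ∣ Nat.card H := by
  have h := Cfsg.Agent.H499.TT.desc_dvd_card (G := H) (Ω := Ω) 2 hc h2
  simpa [Nat.descFactorial, mul_comm] using h

/-- if `p ^ (k + 1)` does not divide `|G|` and `p ^ k` divides `|H|` then `p` does not divide the index of `H` -/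
theorem not_dvd_index [Finite G] {H : Subgroup G} {p k : ℕ} (h1 : ¬ p ^ (k + 1) ∣ Nat.card G) (h2 : p ^ k ∣ Nat.card H) :
    ¬ p ∣ H.index := by
  intro h
  apply h1
  rw [← H.card_mul_index, pow_succ]
  exact Nat.mul_dvd_mul h2 h

end Cfsg.Agent.H361.Tits
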