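import Cfsg.Agent.H361.Tits.T2.Core
import Cfsg.Agent.H361.Tits.Tab1aCore

/-!
# 2-transitive subgroups of rank one groups contain the socle: main theorem (helper361)
-/

set_option autoImplicit false
open Cfsg

namespace Cfsg.Agent.H361.Tits

open Subgroup MulAction Cfsg.Agent.H384.TwoTrans Cfsg.Agent.H384 Cfsg.Agent.H499.TT

universe u v w

variable {G : Type u} {Ω : Type v} [Group G] [MulAction G Ω] {T : Subgroup G} {a : Ω} {p : ℕ} {Q Z : Subgroup G}

/-- the affine subgroups -/
theorem affine_case (A : AS G Ω T) (hp : p.Prime) {k : ℕ} (hc : Nat.card Ω = p ^ k + 1) (hk : 2 ≤ k)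
    (hn5 : Nat.card Ω ≠ 5) (hty : R1 p k ↥T ∨ (p = 3 ∧ k = 3 ∧ Nat.card ↥T = 504 ∧ Nat.card Ω = 28))
    {H : Subgroup G} (hd : p ^ k ∣ Nat.card H) (gp : ¬ p ^ (k + 1) ∣ Nat.card G → T ≤ H)
    {N : Subgroup H} (hN : N.Normal) (hNc : IsMulCommutative ↥N) {l : ℕ} (hl : l.Prime) (hexp : ∀ n ∈ N, n ^ l = 1)
    (htr : ∀ x y : Ω, ∃ n ∈ N, n • x = y) (hreg : ∀ x : Ω, ∀ n ∈ N, n • x = x → n = 1) : T ≤ H := by
  have := A.finG
  have := A.finΩ
  have := A.faithful
  have := A.nontrivialΩ
  obtain ⟨a⟩ : Nonempty Ω := inferInstance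
  have hNcard := card_of_regular htr hreg a
  have := Fact.mk hl
  have hNl : IsPGroup l N := fun x => ⟨1, by rw [pow_one]; exact Subtype.ext (hexp x x.2)⟩
  obtain ⟨m, hm⟩ := (IsPGroup.iff_card.1 hNl)
  have hlm : p ^ k + 1 = l ^ m := by rw [← hm, hNcard, hc]
  have h4 : 4 ≤ p ^ k := by
    calc 4 = 2 ^ 2 := by norm_num
      _ ≤ p ^ 2 := Nat.pow_le_pow_left hp.two_le 2
      _ ≤ p ^ k := Nat.pow_le_pow_right hp.pos hk
  by_cases hp2 : p = 2
  · subst hp2
    rcases hty with hR | ⟨h3, -⟩
    swap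
    · norm_num at h3
    have hk2 : k ≠ 2 := by
      rintro rfl
      exact hn5 hc
    rcases Cfsg.Agent.H436.two_pow_add_one_eq hl (by omega) hlm with h1 | h1
    · subst h1
      rw [pow_one] at hlm
      have hprime : (Nat.card Ω).Prime := by rw [hc, hlm]; exact hl
      cases hR with
      | psl F h4 hF e =>
        obtain ⟨e⟩ := e
        exact (no_fermat A (by omega) hF e hc hprime hd hN hNc htr hreg).elim
      | psu F q hq hF hk' e =>
        exfalso
        have h5 : Nat.card Ω = (q + 1) * (q * (q - 1) + 1) := by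
          rw [hc, ← hk']
          obtain ⟨b, rfl⟩ : ∃ b, q = b + 1 := ⟨q - 1, by omega⟩
          rw [Nat.add_sub_cancel]; ring
        rw [h5] at hprime
        refine Nat.not_prime_mul (by omega) ?_ hprime
        have : 0 < q * (q - 1) := Nat.mul_pos (by omega) (by omega)
        omega
      | sz F m hp' hm hF hk' e =>
        exfalso
        have h5 : 5 ∣ Nat.card Ω := by
          rw [hc, ← hk', ← pow_mul]
          have h6 : (2 * m + 1) * 2 = 2 + 4 * m := by ring
          rw [h6, pow_add, pow_mul]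
          have h7 : (2 ^ 4) ^ m % 5 = 1 := by
            rw [Nat.pow_mod]; norm_num
          omega
        have h6 := (Nat.prime_dvd_prime_iff_eq (by norm_num) hprime).1 h5
        exact hn5 h6.symm
      | ree K m hp' hm hK hk' e => norm_num at hp'
    · subst h1
      apply gp
      cases hR with
      | psl F h4 hF e =>
        obtain ⟨e⟩ := e
        have h5 := A.index_dvd_out e
        rw [card_out_psl2 Nat.prime_two (by norm_num) hF (by norm_num)] at h5
        have h6 : T.index ∣ 3 := by simpa using h5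
        rw [card_eq A e, card_psl2 hF]
        rcases (Nat.dvd_prime Nat.prime_three).1 h6 with h7 | h7 <;> rw [h7] <;> norm_num
      | psu F q hq hF hk' e =>
        exfalso
        have : 3 ^ 3 ≤ q ^ 3 := Nat.pow_le_pow_left hq 3
        omega
      | sz F m hp' hm hF hk' e =>
        exfalso
        rw [← pow_mul] at hk'
        have := Nat.pow_right_injective (le_refl 2) hk'
        omega
      | ree K m hp' hm hK hk' e => norm_num at hp'
  · exfalso
    have hodd := hp.eq_two_or_odd'.resolve_left hp2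
    have h1 : 2 ∣ l ^ m := by
      rw [← hlm]
      exact (hodd.pow.add_one).two_dvd
    have h2 : l = 2 := ((Nat.prime_dvd_prime_iff_eq Nat.prime_two hl).1 (Nat.prime_two.dvd_of_dvd_pow h1)).symm
    subst h2
    have h3 : 2 ≤ m := by
      by_contra hcon
      have : 2 ^ m ≤ 2 ^ 1 := Nat.pow_le_pow_right (by norm_num) (by omega)
      omega
    have := Cfsg.Agent.H436.pow_add_one_eq hp h3 hlm
    omega

/-- **main theorem**, semiregular case -/
theorem core_sr (A : AS G Ω T) (hQ : PQ a p Q) (hSR : SR a p Z) (hK : Known2 ↥T (Nat.card Ω))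
    (hSch : ∀ (X : Type u) [Group X] [Finite X] [IsSimpleGroup X], Group.IsSolvable (Cfsg.Out X))
    {k : ℕ} (hc : Nat.card Ω = p ^ k + 1) (hk : 2 ≤ k) (hn5 : Nat.card Ω ≠ 5)
    {H : Subgroup G} (h2 : IsMultiplyPretransitive H Ω 2)
    (hKH : ∀ S : Subgroup H, AS H Ω S → Known2 ↥S (Nat.card Ω)) : T ≤ H := by
  have hfin := A.finG
  have hfinΩ := A.finΩ
  have hff := A.faithful
  have hnt := A.nontrivialΩ
  have hp := hQ.prime
  have := Fact.mk hp
  have hfH : FaithfulSMul H Ω := ⟨fun h => Subtype.ext (FaithfulSMul.eq_of_smul_eq_smul (α := Ω) h)⟩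
  have h5 := A.five_le
  have htr : ∀ x y : Ω, ∃ g ∈ H, g • x = y := by
    intro x y
    by_cases hxy : x = y
    · exact ⟨1, one_mem _, by rw [hxy, one_smul]⟩
    · obtain ⟨g, hg, -⟩ := two_pts h2 x y y x hxy (Ne.symm hxy)
      exact ⟨g, g.2, hg⟩
  have hd : p ^ k ∣ Nat.card H := by
    have h6 := dvd_card_of_two h2 (by omega)
    have h7 : Nat.card Ω - 1 = p ^ k := by omega
    rw [h7] at h6
    exact (dvd_mul_left _ _).trans h6
  have gp : ¬ p ^ (k + 1) ∣ Nat.card G → T ≤ H := fun h => hQ.socle_le A htr (not_dvd_index h hd)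
  have hty := hSR.types A hK hc hk hn5
  rcases reduction (G := H) h2 (by omega) with ⟨N, hN, -, hNc, ⟨l, hl, hexp⟩, hNtr, hreg⟩ | ⟨S, B⟩
  · exact affine_case A hp hc hk hn5 hty hd gp hN hNc hl hexp hNtr hreg
  have hTfin := A.finT
  have e : S ≃* S.map H.subtype := S.equivMapOfInjective _ H.subtype_injective
  have hS'H : S.map H.subtype ≤ H := by
    rintro _ ⟨x, -, rfl⟩
    exact x.2
  have hS1 : IsSimpleGroup ↥(S.map H.subtype) := by
    have := B.simple
    have : Nontrivial ↥(S.map H.subtype) := e.symm.toEquiv.nontrivial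
    exact IsSimpleGroup.isSimpleGroup_of_surjective e.toMonoidHom e.surjective
  have hS2 : ¬ IsMulCommutative ↥(S.map H.subtype) := by
    intro h
    apply B.nonab
    exact ⟨⟨fun x y => e.injective (by rw [map_mul, map_mul, h.is_comm.comm])⟩⟩
  have hST := AS_le_of_simple A hSch hS1 hS2
  have hcard : Nat.card ↥(S.map H.subtype) = Nat.card S := (Nat.card_congr e.toEquiv).symm
  have hdvd : Nat.card S ∣ Nat.card T := by
    rw [← hcard]
    exact Subgroup.card_dvd_of_le hST
  rcases dvd_or (hKH S B) hp hc with hdS | ⟨hn28, hS504⟩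
  · rcases hty with hR | ⟨rfl, rfl, hT504, -⟩
    · refine (eq_of_dich hR.dich hST hS1 hS2 ?_).trans hS'H
      intro hi
      apply hR.not_dvd hp (by omega)
      have h6 : Nat.card ↥(S.map H.subtype) * (S.map H.subtype).relIndex T = Nat.card T := by
        rw [← Subgroup.relIndex_bot_left, ← Subgroup.relIndex_bot_left]
        exact Subgroup.relIndex_mul_relIndex _ _ _ bot_le hST
      rw [← h6, pow_succ, hcard]
      exact Nat.mul_dvd_mul hdS hi
    · exfalso
      have h6 := hdS.trans hdvd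
      rw [hT504] at h6
      norm_num at h6
  · have h6 : p ^ k = 3 ^ 3 := by omega
    have h7 : p = 3 := by
      have h8 : p ∣ 3 ^ 3 := by rw [← h6]; exact dvd_pow_self p (by omega)
      exact (Nat.prime_dvd_prime_iff_eq hp Nat.prime_three).1 (hp.dvd_of_dvd_pow h8)
    subst h7
    have h8 : k = 3 := Nat.pow_right_injective (by norm_num) h6
    subst h8
    rcases hty with hR | ⟨-, -, hT504, -⟩
    · cases hR with
      | psl F h4 hF e' =>
        exfalso
        obtain ⟨e'⟩ := e'
        rw [Nat.card_congr e'.toEquiv, card_psl2 hF, hS504] at hdvd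
        norm_num at hdvd
      | psu F q hq hF hk' e' =>
        obtain ⟨e'⟩ := e'
        have hq3 : q = 3 := Nat.pow_left_injective (n := 3) (by norm_num) hk'
        subst hq3
        apply gp
        intro h
        have h9 := A.card_dvd_mulAut
        rw [Nat.card_congr (MulAut.congr e').toEquiv, Cfsg.Agent.H933.HT.u33_aut hF] at h9
        have := h.trans h9
        norm_num at this
      | sz F m hp' hm hF hk' e' => norm_num at hp'
      | ree K m hp' hm hK hk' e' =>
        exfalso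
        rw [← pow_mul] at hk'
        have := Nat.pow_right_injective (by norm_num : 2 ≤ 3) hk'
        omega
    · have h9 : S.map H.subtype = T := by
        apply Subgroup.eq_of_le_of_card_ge hST
        rw [hcard, hS504, hT504]
      rw [← h9]
      exact hS'H

/-- **main theorem** -/
theorem core (A : AS G Ω T) (hQ : PQ a p Q) (hK : Known2 ↥T (Nat.card Ω))
    (hSch : ∀ (X : Type u) [Group X] [Finite X] [IsSimpleGroup X], Group.IsSolvable (Cfsg.Out X))
    {k : ℕ} (hc : Nat.card Ω = p ^ k + 1) (hk : 1 ≤ k)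
    {H : Subgroup G} (h2 : IsMultiplyPretransitive H Ω 2)
    (hKH : ∀ S : Subgroup H, AS H Ω S → Known2 ↥S (Nat.card Ω)) :
    T ≤ H ∨ (Nat.card Ω = 5 ∧ p = 2 ∧ Nat.card G = 120 ∧ Nat.card H = 20) := by
  have hfin := A.finG
  have hfinΩ := A.finΩ
  have hff := A.faithful
  have hnt := A.nontrivialΩ
  have hp := hQ.prime
  have h5 := A.five_le
  have hd0 := dvd_card_of_two h2 (by omega)
  have htr : ∀ x y : Ω, ∃ g ∈ H, g • x = y := by
    intro x y
    by_cases hxy : x = y
    · exact ⟨1, one_mem _, by rw [hxy, one_smul]⟩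
    · obtain ⟨g, hg, -⟩ := two_pts h2 x y y x hxy (Ne.symm hxy)
      exact ⟨g, g.2, hg⟩
  by_cases hn5 : Nat.card Ω = 5
  · rcases five A hn5 (by rw [hn5] at hd0; exact hd0) with h | ⟨h, h'⟩
    · exact Or.inl h
    · refine Or.inr ⟨hn5, ?_, h, h'⟩
      have h6 : p ^ k = 2 ^ 2 := by omega
      have h8 : p ∣ 2 ^ 2 := by rw [← h6]; exact dvd_pow_self p (by omega)
      exact (Nat.prime_dvd_prime_iff_eq hp Nat.prime_two).1 (hp.dvd_of_dvd_pow h8)
  left
  rcases Nat.lt_or_ge 1 k with hk2 | hk2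
  · obtain ⟨Z, hZQ, hZ⟩ := exists_EA hp Q hQ.isP hQ.ne_bot hQ.fix hQ.norm
    by_cases hnsr : ∃ n ∈ Z, n ≠ 1 ∧ ∃ y : Ω, y ≠ a ∧ n • y = y
    · exfalso
      obtain ⟨f, n, hr, hf, hn, hcn, -⟩ := pslT_of_nsr A.two hp ⟨Z, hZ.fix, hZ.norm, hZ.comm, hnsr, hZ.isPGroup⟩
      exact psl_no hp hr hf hn hcn hc
    · have hSR : SR a p Z := ⟨hZ, by
        intro x hx hx1 b hb
        by_contra hba
        exact hnsr ⟨x, hx, hx1, b, hba, hb⟩⟩
      exact core_sr A hQ hSR hK hSch hc hk2 hn5 h2 hKH
  · obtain rfl : k = 1 := by omega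
    rw [pow_one] at hc
    refine hQ.socle_le A htr (not_dvd_index (k := 1) (not_sq_dvd hp hc) ?_)
    have h7 : Nat.card Ω - 1 = p := by omega
    rw [h7] at hd0
    rw [pow_one]
    exact (dvd_mul_left _ _).trans hd0

end Cfsg.Agent.H361.Tits
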