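import Cfsg.Agent.H384.AsOut

/-!
# Simple subgroups of an almost simple group lie in the socle (helper361)
-/

set_option autoImplicit false

namespace Cfsg.Agent.H361.Tits

open Subgroup MulAction Cfsg.Agent.H384.TwoTrans

universe u v

variable {G : Type u} {Ω : Type v} [Group G] [MulAction G Ω]

/-- the map to the outer automorphism group of the socle has kernel the socle -/
theorem exists_out (T : Subgroup G) [T.Normal] (hc : centralizer (T : Set G) = ⊥) :
    ∃ φ : G →* Cfsg.Out ↥T, φ.ker ≤ T := by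
  refine ⟨(QuotientGroup.mk' (Cfsg.Inn ↥T)).comp (MulAut.conjNormal : G →* MulAut ↥T), ?_⟩
  intro g hg
  rw [MonoidHom.mem_ker, MonoidHom.comp_apply] at hg
  have h1 : (MulAut.conjNormal g : MulAut ↥T) ∈ Cfsg.Inn ↥T := (QuotientGroup.eq_one_iff _).1 hg
  obtain ⟨t, ht⟩ := h1
  have h2 : (t : G)⁻¹ * g ∈ centralizer (T : Set G) := by
    rw [mem_centralizer_iff]
    intro x hx
    have h3 := congrArg Subtype.val (DFunLike.congr_fun ht (⟨x, hx⟩ : ↥T))
    rw [MulAut.conjNormal_apply] at h3
    have h4 : (t : G) * x * (t : G)⁻¹ = g * x * g⁻¹ := h3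
    have h5 : g * x = (t : G) * x * (t : G)⁻¹ * g := by rw [h4]; group
    calc x * ((t : G)⁻¹ * g) = (t : G)⁻¹ * ((t : G) * x * (t : G)⁻¹ * g) := by group
      _ = (t : G)⁻¹ * (g * x) := by rw [h5]
      _ = (t : G)⁻¹ * g * x := by group
  rw [hc, mem_bot] at h2
  have h3 : g = t := by
    have := congrArg (fun z => (t : G) * z) h2
    simpa using this
  rw [h3]
  exact t.2

/-- a nonabelian simple subgroup lies in the socle, if the outer automorphism group of the socle is solvable -/
theorem le_of_solvable {T S : Subgroup G} [T.Normal] (hc : centralizer (T : Set G) = ⊥)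
    (hs : Group.IsSolvable (Cfsg.Out ↥T)) [IsSimpleGroup ↥S] (hna : ¬ IsMulCommutative ↥S) : S ≤ T := by
  obtain ⟨φ, hφ⟩ := exists_out T hc
  let ψ : S →* Cfsg.Out ↥T := φ.comp S.subtype
  rcases Subgroup.Normal.eq_bot_or_eq_top (inferInstance : ψ.ker.Normal) with h | h
  · exfalso
    apply hna
    have h1 : Group.IsSolvable ↥S := Group.isSolvable_of_isSolvable_injective (f := ψ) ((MonoidHom.ker_eq_bot_iff ψ).1 h)
    exact ⟨⟨IsSimpleGroup.comm_iff_isSolvable.2 h1⟩⟩
  · intro x hx
    apply hφ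
    have h1 : (⟨x, hx⟩ : S) ∈ ψ.ker := by rw [h]; trivial
    exact h1

/-- **Schreier** -/
theorem AS_le_of_simple {T : Subgroup G} (A : AS G Ω T)
    (hSch : ∀ (X : Type u) [Group X] [Finite X] [IsSimpleGroup X], Group.IsSolvable (Cfsg.Out X))
    {S : Subgroup G} (hS : IsSimpleGroup ↥S) (hna : ¬ IsMulCommutative ↥S) : S ≤ T := by
  have := A.normal
  have := A.finT
  have := A.simple
  exact le_of_solvable A.cent (hSch ↥T) hna

end Cfsg.Agent.H361.Tits
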