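import Cfsg.Agent.H361.Tits.T2.Gp
import Cfsg.Agent.H361.Tits.T2.Sch
import Cfsg.Agent.H361.Tits.T2.Cls
import Cfsg.Agent.H436.KFourNum
import Cfsg.Agent.TIAbelian.IsolatedPSL
import Cfsg.Agent.H933.HT.U33T

/-!
# 2-transitive subgroups: the small cases (helper361)
-/

set_option autoImplicit false
open Cfsg

namespace Cfsg.Agent.H361.Tits

open Subgroup MulAction Cfsg.Agent.H384.TwoTrans Cfsg.Agent.H384 Cfsg.Agent.H499.TT

universe u v w

variable {G : Type u} {Ω : Type v} [Group G] [MulAction G Ω] {T : Subgroup G} {a : Ω} {p : ℕ}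

/-- a subgroup of index at most four contains the socle -/
theorem le_of_index_le_four (A : AS G Ω T) {H : Subgroup G} (h4 : H.index ≤ 4) : T ≤ H := by
  have := A.finG
  have := A.finT
  have hs := A.simple
  let f := MulAction.toPermHom T (G ⧸ H)
  rcases Subgroup.Normal.eq_bot_or_eq_top (inferInstance : f.ker.Normal) with h | h
  · exfalso
    have h1 : Nat.card T ∣ Nat.card (Equiv.Perm (G ⧸ H)) :=
      Subgroup.card_dvd_of_injective f ((MonoidHom.ker_eq_bot_iff f).1 h)
    rw [Nat.card_perm] at h1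
    have h2 : (Nat.card (G ⧸ H)).factorial ∣ 24 := by
      have : (Nat.card (G ⧸ H)).factorial ∣ Nat.factorial 4 := Nat.factorial_dvd_factorial h4
      exact this
    have hsol := Cfsg.Agent.LieClassical.Order72.isSolvable_of_card_dvd (h1.trans (h2.trans (by norm_num)))
    exact A.nonab ⟨⟨IsSimpleGroup.comm_iff_isSolvable.2 hsol⟩⟩
  · intro t ht
    have h1 : (⟨t, ht⟩ : T) ∈ f.ker := by rw [h]; trivial
    have h2 : f ⟨t, ht⟩ ((1 : G) : G ⧸ H) = ((1 : G) : G ⧸ H) := by
      rw [MonoidHom.mem_ker.1 h1]; rfl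
    have h3 : ((t * 1 : G) : G ⧸ H) = ((1 : G) : G ⧸ H) := h2
    have h4 := QuotientGroup.eq.1 h3.symm
    simpa using h4

theorem card_dvd_factorial [Finite G] [Finite Ω] [FaithfulSMul G Ω] : Nat.card G ∣ (Nat.card Ω).factorial := by
  rw [← Nat.card_perm]
  exact Subgroup.card_dvd_of_injective (MulAction.toPermHom G Ω) MulAction.toPerm_injective

/-- `k = 1` -/
theorem not_sq_dvd [Finite G] [Finite Ω] [FaithfulSMul G Ω] (hp : p.Prime) (hc : Nat.card Ω = p + 1) :
    ¬ p ^ (1 + 1) ∣ Nat.card G := by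
  intro h
  have h1 := h.trans (card_dvd_factorial (G := G) (Ω := Ω))
  rw [hc, Nat.factorial_succ] at h1
  obtain ⟨b, hb⟩ : ∃ b, p = b + 1 := ⟨p - 1, by have := hp.pos; omega⟩
  have h2 : p.factorial = p * b.factorial := by
    conv_lhs => rw [hb, Nat.factorial_succ, ← hb]
  rw [h2, pow_succ, pow_one] at h1
  have h3 : (p + 1) * (p * b.factorial) = p * ((p + 1) * b.factorial) := by ring
  rw [h3] at h1
  have h4 := Nat.dvd_of_mul_dvd_mul_left hp.pos h1
  rcases hp.dvd_mul.1 h4 with h5 | h5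
  · have h6 := (Nat.dvd_add_right (dvd_refl p)).1 h5
    exact hp.one_lt.ne' (Nat.dvd_one.1 h6)
  · have h6 := (hp.dvd_factorial).1 h5
    omega

/-- degree five -/
theorem five (A : AS G Ω T) {H : Subgroup G} (hn : Nat.card Ω = 5) (hd : 20 ∣ Nat.card H) :
    T ≤ H ∨ (Nat.card G = 120 ∧ Nat.card H = 20) := by
  have := A.finG
  have := A.finΩ
  have := A.faithful
  have h1 := card_dvd_factorial (G := G) (Ω := Ω)
  have h2 : (5 : ℕ).factorial = 120 := rfl
  rw [hn, h2] at h1
  have h3 := H.card_mul_index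
  obtain ⟨c, hc⟩ := hd
  have h4 : H.index ∣ 6 := by
    have h5 : 20 * (c * H.index) ∣ 20 * 6 := by
      rw [← mul_assoc, ← hc, h3]
      exact h1
    exact (dvd_mul_left _ _).trans (Nat.dvd_of_mul_dvd_mul_left (by norm_num) h5)
  rcases Nat.lt_or_ge 4 H.index with h5 | h5
  · right
    have h6 : H.index = 6 := by
      have := Nat.le_of_dvd (by norm_num) h4
      interval_cases h : H.index
      · omega
      · rfl
    rw [h6] at h3
    have h7 : Nat.card G ≤ 120 := Nat.le_of_dvd (by norm_num) h1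
    have h8 : 0 < Nat.card H := Nat.card_pos
    omega
  · exact Or.inl (le_of_index_le_four A h5)

theorem pslTwo_sq {F : Type*} [Field F] [CharP F 2] {x : Matrix.ProjectiveSpecialLinearGroup (Fin 2) F} (hx : x ^ 4 = 1) :
    x ^ 2 = 1 := by
  obtain ⟨g, rfl⟩ := QuotientGroup.mk_surjective x
  have h1 : g ^ 4 ∈ Subgroup.center (Matrix.SpecialLinearGroup (Fin 2) F) := by
    rw [← QuotientGroup.eq_one_iff]
    exact hx
  rw [Matrix.SpecialLinearGroup.mem_center_iff] at h1
  obtain ⟨r, hr, hr4⟩ := h1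
  have hr1 : r = 1 := by
    have h3 : r ^ 2 = 1 := by simpa using hr
    have h2 : (2 : F) = 0 := CharTwo.two_eq_zero
    have h4 : (r - 1) ^ 2 = 0 := by
      calc (r - 1) ^ 2 = r ^ 2 - 1 - 2 * (r - 1) := by ring
        _ = 0 := by rw [h3, h2]; ring
    exact sub_eq_zero.1 (pow_eq_zero_iff (by norm_num : (2 : ℕ) ≠ 0) |>.1 h4)
  have h5 : g ^ 4 = 1 := by
    apply Subtype.ext
    rw [Matrix.SpecialLinearGroup.coe_one, ← hr4, hr1]
    simp
  have h6 := Cfsg.Agent.TIAbelian.IsolatedPSL.sq_eq_one_of_pow_four g h5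
  have h7 : ((g ^ 2 : Matrix.SpecialLinearGroup (Fin 2) F) : Matrix.ProjectiveSpecialLinearGroup (Fin 2) F) = 1 := by
    rw [h6]; rfl
  exact h7

theorem pslTwo_pow {F : Type*} [Field F] [CharP F 2] (j : ℕ) {x : Matrix.ProjectiveSpecialLinearGroup (Fin 2) F}
    (hx : x ^ 2 ^ j = 1) : x ^ 2 = 1 := by
  induction j generalizing x with
  | zero => rw [pow_zero, pow_one] at hx; rw [hx, one_pow]
  | succ j ih =>
    rcases j with _ | j
    · simpa using hx
    · apply ih
      have h1 : (x ^ 2 ^ j) ^ 4 = 1 := by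
        rw [← pow_mul, ← hx]
        congr 1
        rw [pow_succ, pow_succ]; ring
      have h2 := pslTwo_sq h1
      rw [← pow_mul, ← pow_succ] at h2
      exact h2

end Cfsg.Agent.H361.Tits
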