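import Cfsg.Agent.H361.Tits.T2.Main

/-!
# S3414, TAB2 with the classification of the socles as hypothesis (helper361)
-/

set_option autoImplicit false
open Cfsg

namespace Cfsg.Agent.H361.Tits

open Subgroup MulAction Cfsg.Agent.H384.TwoTrans Cfsg.Agent.H384 Cfsg.Agent.H499.TT Cfsg.Agent.H873.Tits

universe u v w

variable {G : Type u} {Ω : Type v} [Group G] [MulAction G Ω] {T : Subgroup G}

/-- the socle swaps any two points -/
theorem swap_of_even (A : AS G Ω T) (h2 : 2 ∣ Nat.card T) {x y : Ω} (hxy : x ≠ y) :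
    ∃ t ∈ T, t • x = y ∧ t • y = x := by
  have := A.finG
  have := A.faithful
  have := A.normal
  have := A.finT
  have := Fact.mk Nat.prime_two
  obtain ⟨t, ht⟩ := exists_prime_orderOf_dvd_card' 2 h2
  have ht2 : (t : G) * t = 1 := by
    have h3 := pow_orderOf_eq_one t
    rw [ht, pow_two] at h3
    exact congrArg Subtype.val h3
  have ht1 : (t : G) ≠ 1 := by
    intro h
    have h3 : t = 1 := Subtype.ext h
    rw [h3, orderOf_one] at ht
    norm_num at ht
  obtain ⟨u, hu⟩ : ∃ u : Ω, (t : G) • u ≠ u := by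
    by_contra hcon
    push Not at hcon
    exact ht1 (FaithfulSMul.eq_of_smul_eq_smul (α := Ω) fun x => by rw [hcon, one_smul])
  obtain ⟨g, hg1, hg2⟩ := A.two' u ((t : G) • u) x y (Ne.symm hu) hxy
  refine ⟨g * t * g⁻¹, A.normal.conj_mem _ t.2 g, ?_, ?_⟩
  · rw [← hg1, mul_smul, mul_smul, inv_smul_smul, hg2]
  · rw [← hg2, mul_smul, mul_smul, inv_smul_smul, ← mul_smul (t : G), ht2, one_smul, hg1]

/-- the socle has even order -/
theorem even_card (A : AS G Ω T) (hK : Known2 ↥T (Nat.card Ω)) {p k : ℕ} (hp : p.Prime)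
    (hc : Nat.card Ω = p ^ k + 1) (hk : 1 ≤ k) : 2 ∣ Nat.card T := by
  rcases hp.eq_two_or_odd' with h | h
  · subst h
    rcases dvd_or hK hp hc with h1 | ⟨-, h1⟩
    · exact (dvd_pow_self 2 (by omega)).trans h1
    · rw [h1]; norm_num
  · have hodd : Odd (p ^ k) := h.pow
    have h1 : 2 ∣ Nat.card Ω := by rw [hc]; exact hodd.add_one.two_dvd
    have h5 := A.five_le
    have : Nonempty Ω := by
      have := A.nontrivialΩ
      infer_instance
    obtain ⟨a⟩ := this
    exact h1.trans (Dvd.intro _ (A.card_mul a))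

/-- **TAB2.** -/
theorem st_tab2_of (hK : ∀ {G Ω : Type v} [Group G] [MulAction G Ω] {T : Subgroup G}, AS G Ω T →
    Known2 ↥T (Nat.card Ω))
    (hSch : ∀ (X : Type v) [Group X] [Finite X] [IsSimpleGroup X], Group.IsSolvable (Cfsg.Out X)) : StTab2.{v} := by
  intro Ω _ L L' s p a b Q hLQ hL'2 hle hpow hAff r hr hrp hri
  obtain ⟨k, hk⟩ := hpow
  have h2 : IsMultiplyPretransitive L Ω 2 := by
    rw [is_two_pretransitive_iff]
    intro a b c d hab hcd
    obtain ⟨g, hg, h1, h2⟩ := hLQ.two a b c d hab hcd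
    exact ⟨⟨g, hg⟩, h1, h2⟩
  have h2' : IsMultiplyPretransitive (L'.subgroupOf L) Ω 2 := by
    rw [is_two_pretransitive_iff]
    intro a b c d hab hcd
    obtain ⟨g, hg, h1, h2⟩ := hL'2 a b c d hab hcd
    exact ⟨⟨⟨g, hle hg⟩, hg⟩, h1, h2⟩
  have hc := hLQ.card
  have hs2 := hLQ.two_le
  have hk1 : 1 ≤ k := by
    by_contra hcon
    have : k = 0 := by omega
    rw [this, pow_zero] at hk
    omega
  rw [hk] at hc
  have hQL : Q ≤ L := hLQ.Q_le.trans inf_le_left
  have hPQ : PQ (G := L) a p (Q.subgroupOf L) :=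
    { prime := hLQ.prime
      ne_bot := by
        intro h
        rw [subgroupOf_eq_bot, disjoint_iff, inf_eq_left.2 hQL] at h
        exact hLQ.Q_ne h
      isP := hLQ.Q_p.comap_of_injective L.subtype L.subtype_injective
      fix := fun x hx => (hLQ.Q_le hx).2
      norm := by
        intro g hg x hx
        have hgS : (g : Equiv.Perm Ω) ∈ Stb L a := ⟨g.2, hg⟩
        have h1 := hLQ.Q_normal.conj_mem ⟨x, hLQ.Q_le hx⟩ hx ⟨g, hgS⟩
        exact h1 }
  have h3 : 3 ≤ Nat.card Ω := by rw [hLQ.card]; omega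
  rcases reduction (G := L) h2 h3 with ⟨N, hN, -, hNc, -, htr, hreg⟩ | ⟨T, A⟩
  · exfalso
    apply hAff
    have hinj := L.subtype_injective
    let e : N ≃* N.map L.subtype := N.equivMapOfInjective _ hinj
    refine ⟨N.map L.subtype, ?_, ?_, ?_, ⟨?_⟩, ?_⟩
    · rintro _ ⟨x, -, rfl⟩
      exact x.2
    · have h1 : (N.map L.subtype).subgroupOf L = N := by
        ext x
        constructor
        · rintro ⟨y, hy, hyx⟩
          have : y = x := hinj hyx
          rwa [← this]
        · intro hx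
          exact ⟨x, hx, rfl⟩
      rw [h1]
      exact hN
    · exact ⟨⟨fun x y => e.symm.injective (by rw [map_mul, map_mul, hNc.is_comm.comm])⟩⟩
    · intro x y
      obtain ⟨n, hn, h⟩ := htr x y
      exact ⟨⟨n, ⟨n, hn, rfl⟩⟩, h⟩
    · intro x
      rw [eq_bot_iff]
      rintro ⟨_, n, hn, rfl⟩ hnx
      rw [mem_bot]
      have h1 := hreg x n hn hnx
      apply Subtype.ext
      change (n : Equiv.Perm Ω) = 1
      rw [h1]
      rfl
  rcases core A hPQ (hK A) hSch hc hk1 h2' (fun S B => hK B) with h | ⟨h5, hp2, h120, h20⟩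
  · left
    refine ⟨T.map L.subtype, ?_, ?_, ?_, ?_⟩
    · rintro _ ⟨x, hx, rfl⟩
      exact h hx
    · have h1 : (T.map L.subtype).subgroupOf L = T := by
        ext x
        constructor
        · rintro ⟨y, hy, hyx⟩
          have : y = x := L.subtype_injective hyx
          rwa [← this]
        · intro hx
          exact ⟨x, hx, rfl⟩
      rw [h1]
      exact A.normal
    · intro x y hxy
      obtain ⟨t, ht, h1, h2⟩ := swap_of_even A (even_card A (hK A) hLQ.prime hc hk1) hxy
      exact ⟨t, ⟨t, ht, rfl⟩, h1, h2⟩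
    · intro M hML hM hM1
      have h1 := A.le_of_normal (M.subgroupOf L) hM (by
        intro h
        rw [subgroupOf_eq_bot, disjoint_iff, inf_eq_left.2 hML] at h
        exact hM1 h)
      rintro _ ⟨x, hx, rfl⟩
      exact h1 hx
  · right
    have h20' : Nat.card L' = 20 := by
      rw [← h20]
      exact (Nat.card_congr (Subgroup.subgroupOfEquivOfLe hle).toEquiv).symm
    have h6 : Nat.card (L'.subgroupOf L) * (L'.subgroupOf L).index = Nat.card L := Subgroup.card_mul_index _
    rw [h20, h120] at h6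
    have h7 : L'.relIndex L = 6 := by
      change (L'.subgroupOf L).index = 6
      omega
    rw [h7] at hri
    refine ⟨?_, hp2, ?_, h120, h20'⟩
    · have := hLQ.card
      omega
    · have h8 : r ∣ 2 * 3 := hri
      rcases hr.dvd_mul.1 h8 with h9 | h9
      · exact (hrp (((Nat.prime_dvd_prime_iff_eq hr Nat.prime_two).1 h9).trans hp2.symm)).elim
      · exact (Nat.prime_dvd_prime_iff_eq hr Nat.prime_three).1 h9

end Cfsg.Agent.H361.Tits
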