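import Cfsg.Agent.H384.TwoTrans
import Cfsg.Agent.H248.DichChev
import Cfsg.Agent.H499.TTSmall
import Cfsg.Agent.S0280
import Cfsg.Agent.LieRecognition.ReeFinal
import Cfsg.Agent.S1163

/-!
# Rank one groups of Lie type in natural degree (helper361)
-/

set_option autoImplicit false
open Cfsg

namespace Cfsg.Agent.H361.Tits

open Subgroup

universe u v

/-- `T` is a rank one group of Lie type of characteristic `p`, whose natural degree is `p ^ k + 1` -/
inductive R1 (p k : ℕ) (T : Type u) [Group T] : Prop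
  | psl (F : Type) [Field F] [Fintype F] (h4 : 4 ≤ Fintype.card F) (hF : Fintype.card F = p ^ k)
      (e : Nonempty (T ≃* Matrix.ProjectiveSpecialLinearGroup (Fin 2) F)) : R1 p k T
  | psu (F : Type) [Field F] [Fintype F] (q : ℕ) (hq : 3 ≤ q) (hF : Fintype.card F = q ^ 2) (hk : q ^ 3 = p ^ k)
      (e : Nonempty (T ≃* Cfsg.PSU 3 F q)) : R1 p k T
  | sz (F : Type) [Field F] [Fintype F] (m : ℕ) (hp : p = 2) (hm : 1 ≤ m) (hF : Fintype.card F = 2 ^ (2 * m + 1))
      (hk : (2 ^ (2 * m + 1)) ^ 2 = 2 ^ k) (e : Nonempty (T ≃* ↥(Cfsg.Lie.Sz F (2 ^ (m + 1))))) : R1 p k T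
  | ree (K : Type) [Field K] [Fintype K] (m : ℕ) (hp : p = 3) (hm : 1 ≤ m) (hK : Fintype.card K = 3 ^ (2 * m + 1))
      (hk : (3 ^ (2 * m + 1)) ^ 3 = 3 ^ k) (e : Nonempty (T ≃* ↥(Cfsg.Lie.twistedG2 K (3 ^ m)))) : R1 p k T

theorem card_psl2_dvd {F : Type*} [Field F] [Fintype F] :
    Nat.card (Matrix.ProjectiveSpecialLinearGroup (Fin 2) F) ∣ Fintype.card F * (Fintype.card F ^ 2 - 1) := by
  rw [Cfsg.Agent.H499.TT.card_psl2 rfl]
  apply Nat.div_dvd_of_dvd
  have h1 : Nat.gcd 2 (Fintype.card F - 1) ∣ Fintype.card F - 1 := Nat.gcd_dvd_right _ _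
  have h2 : Fintype.card F - 1 ∣ Fintype.card F ^ 2 - 1 := by
    have := Nat.sub_dvd_pow_sub_pow (Fintype.card F) 1 2
    rwa [one_pow] at this
  exact (h1.trans h2).mul_left _

theorem card_psu3 {F : Type*} [Field F] [Fintype F] {q : ℕ} (hF : Fintype.card F = q ^ 2) (hq : 1 ≤ q) :
    Nat.gcd 3 (q + 1) * Nat.card (Cfsg.PSU 3 F q) = q ^ 3 * (q ^ 2 - 1) * (q ^ 3 + 1) := by
  have h := Cfsg.Agent.S0280.result hF 3 (by norm_num)
  rw [Finset.prod_range_succ, Finset.prod_range_succ, Finset.prod_range_one] at h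
  have e0 : Even 0 := Even.zero
  have e1 : ¬ Even 1 := by decide
  have e2 : Even 2 := by decide
  rw [if_pos e0, if_neg e1, if_pos e2] at h
  norm_num at h
  have h1 : (q + 1) * (Nat.gcd 3 (q + 1) * Nat.card (Cfsg.PSU 3 F q)) =
      (q + 1) * (q ^ 3 * (q ^ 2 - 1) * (q ^ 3 + 1)) := by
    calc _ = Nat.gcd 3 (q + 1) * ((q + 1) * Nat.card (Cfsg.PSU 3 F q)) := by ring
      _ = _ := h
      _ = _ := by ring
  exact Nat.eq_of_mul_eq_mul_left (by omega) h1

theorem not_dvd_of_mul {p k N M : ℕ} (hp : p.Prime) (hN : N ∣ p ^ k * M) (hM : ¬ p ∣ M) : ¬ p ^ (k + 1) ∣ N := by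
  intro h
  have h1 := h.trans hN
  rw [pow_succ] at h1
  exact hM (Nat.dvd_of_mul_dvd_mul_left (pow_pos hp.pos k) h1)

theorem not_dvd_pow_sub_one {p q : ℕ} (hp : p.Prime) (hq : p ∣ q) (hq1 : 1 ≤ q) {j : ℕ} (hj : j ≠ 0) : ¬ p ∣ q ^ j - 1 := by
  intro h
  have h1 : 1 ≤ q ^ j := Nat.one_le_pow _ _ hq1
  have h2 : p ∣ q ^ j := hq.trans (dvd_pow_self _ hj)
  exact hp.one_lt.ne' (Nat.dvd_one.1 ((Nat.dvd_sub_iff_right h1 h2).1 h))

theorem not_dvd_pow_add_one {p q : ℕ} (hp : p.Prime) (hq : p ∣ q) {j : ℕ} (hj : j ≠ 0) : ¬ p ∣ q ^ j + 1 := by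
  intro h
  have h2 : p ∣ q ^ j := hq.trans (dvd_pow_self _ hj)
  exact hp.one_lt.ne' (Nat.dvd_one.1 ((Nat.dvd_add_right h2).1 h))

namespace R1

variable {p k : ℕ} {T : Type u} [Group T]

theorem not_dvd (hp : p.Prime) (hk1 : 1 ≤ k) (h : R1 p k T) : ¬ p ^ (k + 1) ∣ Nat.card T := by
  cases h with
  | psl F h4 hF e =>
    obtain ⟨e⟩ := e
    rw [Nat.card_congr e.toEquiv]
    refine not_dvd_of_mul hp (M := Fintype.card F ^ 2 - 1) ?_ ?_
    · rw [← hF]
      exact card_psl2_dvd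
    · exact not_dvd_pow_sub_one hp (hF ▸ dvd_pow_self p (by omega)) (by omega) (by norm_num)
  | psu F q hq hF hk e =>
    obtain ⟨e⟩ := e
    have hpq : p ∣ q := hp.dvd_of_dvd_pow (n := 3) (by rw [hk]; exact dvd_pow_self p (by omega))
    rw [Nat.card_congr e.toEquiv]
    refine not_dvd_of_mul hp (M := (q ^ 2 - 1) * (q ^ 3 + 1)) ?_ ?_
    · rw [← hk, ← mul_assoc, ← card_psu3 hF (by omega)]
      exact dvd_mul_left _ _
    · rw [hp.dvd_mul]
      rintro (h | h)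
      · exact not_dvd_pow_sub_one hp hpq (by omega) (by norm_num) h
      · exact not_dvd_pow_add_one hp hpq (by norm_num) h
  | sz F m hp' hm hF hk e =>
    obtain ⟨e⟩ := e
    subst hp'
    rw [Nat.card_congr e.toEquiv]
    have hq : 2 ∣ 2 ^ (2 * m + 1) := dvd_pow_self 2 (by omega)
    have hc := (Cfsg.Agent.S1163.result hm hF).1
    refine not_dvd_of_mul Nat.prime_two (M := (2 ^ (2 * m + 1) - 1) * ((2 ^ (2 * m + 1)) ^ 2 + 1)) ?_ ?_
    · rw [← hk, hc]
      exact dvd_of_eq (by ring)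
    · rw [Nat.prime_two.dvd_mul]
      rintro (h | h)
      · exact not_dvd_pow_sub_one Nat.prime_two dvd_rfl (by norm_num) (j := 2 * m + 1) (by omega) h
      · exact not_dvd_pow_add_one Nat.prime_two hq (by norm_num) h
  | ree K m hp' hm hK hk e =>
    obtain ⟨e⟩ := e
    subst hp'
    rw [Nat.card_congr e.toEquiv]
    have hq : 3 ∣ 3 ^ (2 * m + 1) := dvd_pow_self 3 (by omega)
    have hc := Cfsg.Agent.LieRecognition.ReeFinal.card hK
    refine not_dvd_of_mul Nat.prime_three (M := (3 ^ (2 * m + 1) - 1) * ((3 ^ (2 * m + 1)) ^ 3 + 1)) ?_ ?_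
    · rw [← hk, ← mul_assoc, ← hc]
    · rw [Nat.prime_three.dvd_mul]
      rintro (h | h)
      · exact not_dvd_pow_sub_one Nat.prime_three dvd_rfl (by norm_num) (j := 2 * m + 1) (by omega) h
      · exact not_dvd_pow_add_one Nat.prime_three hq (by norm_num) h

theorem isLie [hp : Fact p.Prime] (h : R1 p k T) : IsLieTypeChar p T := by
  cases h with
  | psl F h4 hF e =>
    have : CharP F p := charP_of_card_eq_prime_pow hF
    exact Or.inl ⟨F, inferInstance, inferInstance, inferInstance, 2, le_rfl, fun _ => h4, e⟩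
  | psu F q hq hF hk e =>
    have h1 : q ∣ p ^ k := by
      rw [← hk]; exact dvd_pow_self q (by norm_num)
    obtain ⟨j, -, hj⟩ := (Nat.dvd_prime_pow hp.out).1 h1
    have : CharP F p := charP_of_card_eq_prime_pow (f := j * 2) (by rw [hF, hj, ← pow_mul])
    exact Or.inr (Or.inr (Or.inl ⟨F, inferInstance, inferInstance, inferInstance, 3, q, hF, le_rfl, by omega, e⟩))
  | sz F m hp' hm hF hk e =>
    exact Or.inr (Or.inr (Or.inr (Or.inr (Or.inr (Or.inr (Or.inr (Or.inr (Or.inl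
      ⟨hp', F, inferInstance, inferInstance, m, hm, hF, e⟩))))))))
  | ree K m hp' hm hK hk e =>
    exact Or.inr (Or.inr (Or.inr (Or.inr (Or.inr (Or.inr (Or.inr (Or.inr (Or.inr (Or.inr
      ⟨hp', K, inferInstance, inferInstance, m, hm, hK, e⟩)))))))))

theorem dich [Fact p.Prime] [Finite T] (h : R1 p k T) : H248.Ovg.Dich p T :=
  H248.Ovg.dich_of_chev (Or.inl h.isLie)

end R1

end Cfsg.Agent.H361.Tits
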